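import Cfsg.Agent.H823.O8S.Defs
import Cfsg.Agent.H708.O8.Par
import Cfsg.Agent.H954.CWarn

/-!
# S3938-OPLUS8-O10: the two fields `F[J]`, `F[J']` are not conjugate in `Ω⁺₈(q)` (helper332, task 5848)
-/

set_option autoImplicit false
set_option linter.unusedSectionVars false

namespace Cfsg.Agent.H332.O8S

open Module QuadraticMap Cfsg Cfsg.Geo Cfsg.Agent.LieClassical.OrthCore Cfsg.Agent.H955 Cfsg.Agent.H954.TSing
open Cfsg.Agent.LieClassical.OmegaReindex Cfsg.Agent.H823.O8S
open Cfsg.Agent.H951 (fx cm Inv)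
open Cfsg.Agent.H884.El
open Cfsg.Agent.H708.O8 (I8 T8)
open scoped MatrixGroups Matrix

/-! ### invariant subspaces have even dimension -/

section

variable {F : Type*} [Field F]

theorem even_of_quad (c d : F) (irr : ∀ z : F, z * z - c * z + d ≠ 0) : ∀ (n : ℕ) (U : Type*) [AddCommGroup U]
    [Module F U] [FiniteDimensional F U] (j : U →ₗ[F] U), (∀ u, j (j u) = c • j u - d • u) → finrank F U = n →
    Even n := by
  intro n
  induction n using Nat.strong_induction_on with
  | _ n ih =>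
    intro U _ _ _ j hj hn
    by_cases h0 : n = 0
    · subst h0; exact Even.zero
    have : Nontrivial U := by
      rw [← finrank_pos_iff (R := F), hn]
      omega
    obtain ⟨u, hu⟩ := exists_ne (0 : U)
    have hli : LinearIndependent F ![u, j u] := by
      rw [LinearIndependent.pair_iff]
      intro a b hab
      have hb : b = 0 := by
        by_contra hb
        have h1 : j u = (-(b⁻¹ * a)) • u := by
          have h2 : b • j u = -(a • u) := by rw [eq_neg_iff_add_eq_zero, add_comm]; exact hab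
          calc j u = b⁻¹ • (b • j u) := by rw [smul_smul, inv_mul_cancel₀ hb, one_smul]
            _ = (-(b⁻¹ * a)) • u := by rw [h2, smul_neg, smul_smul, neg_smul]
        have h3 := hj u
        rw [h1, map_smul, h1, smul_smul, smul_smul, ← sub_smul] at h3
        have h4 : ((-(b⁻¹ * a)) * (-(b⁻¹ * a)) - c * (-(b⁻¹ * a)) + d) • u = 0 := by
          rw [add_smul, sub_smul, h3, sub_smul]
          abel
        rcases smul_eq_zero.1 h4 with h5 | h5
        · exact irr _ h5
        · exact hu h5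
      rw [hb, zero_smul, add_zero] at hab
      exact ⟨(smul_eq_zero.1 hab).resolve_right hu, hb⟩
    let P : Submodule F U := Submodule.span F (Set.range ![u, j u])
    have hP2 : finrank F P = 2 := by
      have := finrank_span_eq_card hli
      simpa using this
    have hPm : ∀ v, v ∈ P ↔ ∃ a b : F, a • u + b • j u = v := by
      intro v
      show v ∈ Submodule.span F (Set.range ![u, j u]) ↔ _
      rw [Matrix.range_cons, Matrix.range_cons, Matrix.range_empty, Set.union_empty]
      exact Submodule.mem_span_pair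
    have hPi : P ≤ P.comap j := by
      intro v hv
      obtain ⟨a, b, rfl⟩ := (hPm v).1 hv
      rw [Submodule.mem_comap, map_add, map_smul, map_smul, hj]
      exact (hPm _).2 ⟨-(b * d), a + b * c, by module⟩
    have hq := P.finrank_quotient_add_finrank
    rw [hP2, hn] at hq
    have h6 := ih (finrank F (U ⧸ P)) (by omega) (U ⧸ P) (P.mapQ P j hPi) (fun w => by
      obtain ⟨w, rfl⟩ := Submodule.mkQ_surjective P w
      rw [Submodule.mkQ_apply, Submodule.mapQ_apply, Submodule.mapQ_apply, hj]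
      rfl) rfl
    rw [← hq]
    exact h6.add (by decide)

theorem even_of_inv {c d : F} (irr : ∀ z : F, z * z - c * z + d ≠ 0) {V : Type*} [AddCommGroup V] [Module F V]
    [FiniteDimensional F V] {J : Module.End F V} (hJ : J * J = c • J - d • (1 : Module.End F V)) {U : Submodule F V}
    (hU : ∀ v ∈ U, J v ∈ U) : Even (finrank F U) := by
  refine even_of_quad c d irr _ U (J.restrict hU) (fun u => Subtype.ext ?_) rfl
  exact congrArg (fun f : Module.End F V => f (u : V)) hJ

end

/-! ### the form -/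

section

variable {F : Type} [Field F]

/-- the quadratic form -/
abbrev qq (F : Type) [Field F] : QuadraticForm F (I8 → F) := quadPlus 4 F

/-- its polar form -/
abbrev bb (F : Type) [Field F] : LinearMap.BilinForm F (I8 → F) := polarBilin (quadPlus 4 F)

theorem coe_qq (v : I8 → F) : quadFormPlus 4 F v = qq F v := by rw [← coe_quadPlus]

theorem qq_add (u v : I8 → F) : qq F (u + v) = qq F u + qq F v + bb F u v := by
  rw [polarBilin_apply_apply]
  exact QuadraticMap.map_add (quadPlus 4 F) u v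

theorem qq_smul (a : F) (v : I8 → F) : qq F (a • v) = a * a * qq F v := QuadraticMap.map_smul (quadPlus 4 F) a v

theorem bb_comm (u v : I8 → F) : bb F u v = bb F v u := by
  rw [polarBilin_apply_apply, polarBilin_apply_apply, polar_comm]

theorem bb_self (v : I8 → F) : bb F v v = 2 * qq F v := by
  have h := qq_add (F := F) v v
  rw [← two_smul F v, qq_smul] at h
  linear_combination -h

theorem bb_refl : (bb F).IsRefl := fun u v h => by rw [bb_comm]; exact h

variable {J : Module.End F (I8 → F)} {c d : F} (h : Fld J c d)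

include h

theorem Fld.J2 (v : I8 → F) : J (J v) = c • J v - d • v := congrArg (fun f : Module.End F (I8 → F) => f v) h.sq

theorem Fld.d0 : d ≠ 0 := by
  have := h.irr 0
  intro hd
  apply this
  rw [hd]; ring

theorem Fld.q (v : I8 → F) : qq F (J v) = d * qq F v := by
  have := h.sim v
  rwa [coe_qq, coe_qq] at this

theorem Fld.b (u v : I8 → F) : bb F (J u) (J v) = d * bb F u v := by
  have h1 := qq_add (J u) (J v)
  rw [← map_add, Fld.q h, Fld.q h, Fld.q h, qq_add] at h1
  linear_combination -h1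

theorem Fld.two_or [Finite F] : (2 : F) ≠ 0 ∨ c ≠ 0 := by
  by_contra hcon
  push Not at hcon
  have : Fintype F := Fintype.ofFinite F
  have h2 : ringChar F = 2 := by
    have h3 : ringChar F ∣ 2 := ringChar.dvd (by exact_mod_cast hcon.1)
    rcases (Nat.dvd_prime Nat.prime_two).1 h3 with h4 | h4
    · exact absurd h4 (CharP.ringChar_ne_one)
    · exact h4
  obtain ⟨z, hz⟩ := FiniteField.isSquare_of_char_two h2 d
  apply h.irr z
  rw [hcon.2, hz]
  linear_combination (z * z) * hcon.1

/-- `B(Jv, v) = c Q(v)` -/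
theorem Fld.bs [Finite F] (v : I8 → F) : bb F (J v) v = c * qq F v := by
  have h1 := Fld.b h (J v) v
  rw [Fld.J2 h, map_sub, map_smul, map_smul, LinearMap.sub_apply, LinearMap.smul_apply, LinearMap.smul_apply,
    smul_eq_mul, smul_eq_mul, bb_self, Fld.q h, bb_comm v (J v)] at h1
  have h2 := Fld.q h (J v)
  rw [Fld.J2 h, Fld.q h, sub_eq_add_neg, qq_add, ← neg_smul, qq_smul, qq_smul, map_smul, map_smul, LinearMap.smul_apply,
    smul_eq_mul, smul_eq_mul, Fld.q h] at h2
  have hd := Fld.d0 h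
  rcases Fld.two_or h with h3 | h3
  · have h4 : (2 * d) * (bb F (J v) v - c * qq F v) = 0 := by linear_combination -h1
    have h5 := (mul_eq_zero.1 h4).resolve_left (mul_ne_zero h3 hd)
    exact sub_eq_zero.1 h5
  · have h4 : (c * d) * (bb F (J v) v - c * qq F v) = 0 := by linear_combination -h2
    have h5 := (mul_eq_zero.1 h4).resolve_left (mul_ne_zero h3 hd)
    exact sub_eq_zero.1 h5

/-- the totally singular `F[J]`-subspaces -/
def TSJ (J : Module.End F (I8 → F)) (Y : Submodule F (I8 → F)) : Prop :=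
  (∀ v ∈ Y, qq F v = 0) ∧ ∀ v ∈ Y, J v ∈ Y

omit h in
theorem ts_bb {Y : Submodule F (I8 → F)} (hY : ∀ v ∈ Y, qq F v = 0) {u v : I8 → F} (hu : u ∈ Y) (hv : v ∈ Y) :
    bb F u v = 0 := by
  have h1 := qq_add u v
  rw [hY _ (Y.add_mem hu hv), hY _ hu, hY _ hv] at h1
  linear_combination -h1

omit h in
/-- a bilinear form with diagonal `Q` -/
def ff (F : Type) [Field F] : LinearMap.BilinForm F (I8 → F) :=
  LinearMap.mk₂ F (fun v w => ∑ i : Fin 4, v (.inl i) * w (.inr i))
    (fun u v w => by simp only [Pi.add_apply, add_mul, Finset.sum_add_distrib])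
    (fun a v w => by simp only [Pi.smul_apply, smul_eq_mul, mul_assoc, Finset.mul_sum])
    (fun u v w => by simp only [Pi.add_apply, mul_add, Finset.sum_add_distrib])
    (fun a v w => by
      simp only [Pi.smul_apply, smul_eq_mul, Finset.mul_sum]
      exact Finset.sum_congr rfl fun i _ => by ring)

omit h in
/-- singular vectors in subspaces of dimension at least three -/
theorem exists_sing [Finite F] {C : Submodule F (I8 → F)} (hC : 2 < finrank F C) : ∃ v ∈ C, v ≠ 0 ∧ qq F v = 0 := by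
  obtain ⟨u, hu, hf⟩ := H954.CWarn.exists_common_zero (κ := Unit) (fun _ => (ff F).restrict C) (by simpa using hC)
  refine ⟨u, u.2, fun h0 => hu (Subtype.ext h0), ?_⟩
  rw [← coe_qq]
  exact hf ()

theorem TSJ.step [Finite F] {Y : Submodule F (I8 → F)} (hY : TSJ J Y) (h2 : finrank F Y ≤ 2) :
    ∃ Y', TSJ J Y' ∧ finrank F Y' = finrank F Y + 2 := by
  have hB := LinearMap.BilinForm.finrank_orthogonal (B := bb F) quadPlus_nondegenerate Y
  have h8 : finrank F (I8 → F) = 8 := by simp
  rw [h8] at hB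
  have hYo : Y ≤ (bb F).orthogonal Y := fun v hv u hu => ts_bb hY.1 hu hv
  obtain ⟨C0, hC0⟩ := Submodule.exists_isCompl Y
  have hsup : Y ⊔ C0 ⊓ (bb F).orthogonal Y = (bb F).orthogonal Y := by
    rw [← sup_inf_assoc_of_le C0 hYo, hC0.sup_eq_top, top_inf_eq]
  have hinf : Y ⊓ (C0 ⊓ (bb F).orthogonal Y) = ⊥ := by
    rw [← inf_assoc, hC0.inf_eq_bot, bot_inf_eq]
  have hd := Submodule.finrank_sup_add_finrank_inf_eq Y (C0 ⊓ (bb F).orthogonal Y)
  rw [hsup, hinf, finrank_bot, hB] at hd
  obtain ⟨v, hv, hv0, hqv⟩ := exists_sing (C := C0 ⊓ (bb F).orthogonal Y) (by omega)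
  have hvY : v ∉ Y := by
    intro hvY
    have h3 : v ∈ Y ⊓ (C0 ⊓ (bb F).orthogonal Y) := ⟨hvY, hv⟩
    rw [hinf] at h3
    exact hv0 ((Submodule.mem_bot F).1 h3)
  have hbv : ∀ y ∈ Y, bb F y v = 0 := fun y hy => hv.2 y hy
  have hbJ : ∀ y ∈ Y, bb F y (J v) = 0 := by
    intro y hy
    have h3 : J (c • y - J y) = d • y := by
      rw [map_sub, map_smul, Fld.J2 h]; abel
    have h4 := Fld.b h (c • y - J y) v
    rw [h3, map_smul, LinearMap.smul_apply, smul_eq_mul,
      hbv _ (Y.sub_mem (Y.smul_mem c hy) (hY.2 y hy)), mul_zero] at h4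
    exact (mul_eq_zero.1 h4).resolve_left (Fld.d0 h)
  have hJJ : bb F v (J v) = 0 := by rw [bb_comm, Fld.bs h, hqv, mul_zero]
  have hinv : ∀ w ∈ Y ⊔ Submodule.span F {v, J v}, J w ∈ Y ⊔ Submodule.span F {v, J v} := by
    intro w hw
    obtain ⟨a, ha, b, hb, rfl⟩ := Submodule.mem_sup.1 hw
    obtain ⟨k, l, rfl⟩ := Submodule.mem_span_pair.1 hb
    rw [map_add, map_add, map_smul, map_smul, Fld.J2 h]
    exact Submodule.add_mem_sup (hY.2 a ha) (Submodule.mem_span_pair.2 ⟨-(l * d), k + l * c, by module⟩)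
  have hts : ∀ w ∈ Y ⊔ Submodule.span F {v, J v}, qq F w = 0 := by
    intro w hw
    obtain ⟨a, ha, b, hb, rfl⟩ := Submodule.mem_sup.1 hw
    obtain ⟨k, l, rfl⟩ := Submodule.mem_span_pair.1 hb
    rw [qq_add, qq_add, qq_smul, qq_smul, Fld.q h, hqv, hY.1 a ha]
    simp only [map_add, map_smul, LinearMap.smul_apply, smul_eq_mul, hbv a ha, hbJ a ha, hJJ]
    ring
  refine ⟨_, ⟨hts, hinv⟩, ?_⟩
  have h5 : finrank F ↥(Submodule.span F {v, J v}) ≤ 2 := by
    classical
    have := finrank_span_finset_le_card (R := F) ({v, J v} : Finset (I8 → F))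
    rw [Finset.coe_pair] at this
    exact this.trans Finset.card_le_two
  have h6 := Submodule.finrank_add_le_finrank_add_finrank Y (Submodule.span F {v, J v})
  have h7 : finrank F Y < finrank F ↥(Y ⊔ Submodule.span F {v, J v}) := by
    refine Submodule.finrank_lt_finrank_of_lt (lt_of_le_of_ne le_sup_left fun he => hvY ?_)
    rw [he]
    exact Submodule.mem_sup_right (Submodule.subset_span (Set.mem_insert _ _))
  have h8 := even_of_inv h.irr h.sq hinv
  have h9 := even_of_inv h.irr h.sq hY.2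
  obtain ⟨k, hk⟩ := h8
  obtain ⟨l, hl⟩ := h9
  omega

theorem exists_tsj [Finite F] : ∃ Y, TSJ J Y ∧ finrank F Y = 4 := by
  have h0 : TSJ J ⊥ := by
    refine ⟨fun v hv => ?_, fun v hv => ?_⟩
    · rw [(Submodule.mem_bot F).1 hv]
      exact QuadraticMap.map_zero _
    · rw [(Submodule.mem_bot F).1 hv, map_zero]
      exact Submodule.zero_mem _
  obtain ⟨Y1, h1, e1⟩ := TSJ.step h h0 (by rw [finrank_bot]; norm_num)
  rw [finrank_bot] at e1
  obtain ⟨Y2, h2, e2⟩ := TSJ.step h h1 (by omega)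
  exact ⟨Y2, h2, by omega⟩

end

/-! ### the reflection -/

section

variable {F : Type} [Field F]

/-- the reflection in `w` -/
noncomputable def rfl' (w : I8 → F) : Module.End F (I8 → F) where
  toFun v := v - (bb F v w * (qq F w)⁻¹) • w
  map_add' u v := by
    rw [map_add, LinearMap.add_apply, add_mul, add_smul]; abel
  map_smul' a v := by
    rw [map_smul, LinearMap.smul_apply, smul_eq_mul, RingHom.id_apply, smul_sub, smul_smul, mul_assoc]

theorem rfl'_apply (w v : I8 → F) : rfl' w v = v - (bb F v w * (qq F w)⁻¹) • w := rfl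

variable {w : I8 → F} (hw : qq F w ≠ 0)

include hw

theorem rfl'_q (v : I8 → F) : qq F (rfl' w v) = qq F v := by
  rw [rfl'_apply, sub_eq_add_neg, ← neg_smul, qq_add, qq_smul, map_smul, smul_eq_mul]
  field_simp
  ring

theorem rfl'_rfl' (v : I8 → F) : rfl' w (rfl' w v) = v := by
  rw [rfl'_apply w (rfl' w v), rfl'_apply w v, map_sub, LinearMap.sub_apply, map_smul, LinearMap.smul_apply,
    smul_eq_mul, bb_self]
  have h1 : (bb F v w - bb F v w * (qq F w)⁻¹ * (2 * qq F w)) * (qq F w)⁻¹ = -(bb F v w * (qq F w)⁻¹) := by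
    field_simp
    ring
  rw [h1, neg_smul]
  abel

/-- `dim (Y ∩ ρ Y) = 3` -/
theorem finrank_inf_rfl' {Y : Submodule F (I8 → F)} (hY : ∀ v ∈ Y, qq F v = 0) (h4 : finrank F Y = 4) :
    finrank F ↥(Y ⊓ Y.map (rfl' w)) = 3 := by
  have h8 : finrank F (I8 → F) = 8 := by simp
  -- `Y` is its own orthogonal space
  have hYo : Y ≤ (bb F).orthogonal Y := fun v hv u hu => ts_bb hY hu hv
  have hB := LinearMap.BilinForm.finrank_orthogonal (B := bb F) quadPlus_nondegenerate Y
  rw [h8, h4] at hB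
  have hYe : Y = (bb F).orthogonal Y := Submodule.eq_of_le_of_finrank_eq hYo (by rw [h4, hB])
  have hwY : w ∉ Y := fun hh => hw (hY w hh)
  let f : Y →ₗ[F] F := (bb F w).comp Y.subtype
  have hf0 : f ≠ 0 := by
    intro h0
    apply hwY
    rw [hYe]
    intro u hu
    have h1 : f ⟨u, hu⟩ = 0 := by rw [h0]; rfl
    show bb F u w = 0
    rw [bb_comm]
    exact h1
  have h3 : finrank F (LinearMap.ker f) = 3 := by
    have h5 := LinearMap.finrank_range_add_finrank_ker f
    have h6 : finrank F (LinearMap.range f) = 1 := by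
      rw [LinearMap.range_eq_top.2 (LinearMap.surjective_of_ne_zero hf0), finrank_top, finrank_self]
    omega
  have h7 : Y ⊓ Y.map (rfl' w) = (LinearMap.ker f).map Y.subtype := by
    ext y
    constructor
    · rintro ⟨hy, y1, hy1, e⟩
      rw [rfl'_apply] at e
      have h8 : (bb F y1 w * (qq F w)⁻¹) = 0 := by
        by_contra h0
        apply hwY
        have h9 : w = (bb F y1 w * (qq F w)⁻¹)⁻¹ • (y1 - y) := by
          rw [← e, sub_sub_cancel, smul_smul, inv_mul_cancel₀ h0, one_smul]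
        rw [h9]
        exact Y.smul_mem _ (Y.sub_mem hy1 hy)
      rw [h8, zero_smul, sub_zero] at e
      subst e
      refine ⟨⟨y1, hy⟩, ?_, rfl⟩
      have h10 : bb F y1 w = 0 := (mul_eq_zero.1 h8).resolve_right (inv_ne_zero hw)
      show bb F w y1 = 0
      rw [bb_comm, h10]
    · rintro ⟨⟨y1, hy1⟩, hk, rfl⟩
      have h10 : bb F w y1 = 0 := hk
      refine ⟨hy1, y1, hy1, ?_⟩
      rw [rfl'_apply, bb_comm, h10, zero_mul, zero_smul, sub_zero]
      rfl
  rw [h7, Submodule.finrank_map_subtype_eq]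
  exact h3

end

/-! ### the two fields -/

section

variable {F : Type} [Field F]

theorem Fld.eig {J : Module.End F (I8 → F)} {c d : F} (h : Fld J c d) {z : F} {v : I8 → F} (hv : J v = z • v) :
    v = 0 := by
  have h1 := Fld.J2 h v
  rw [hv, map_smul, hv, smul_smul, smul_smul] at h1
  have h2 : (z * z - c * z + d) • v = 0 := by
    rw [add_smul, sub_smul, h1]; abel
  exact (smul_eq_zero.1 h2).resolve_left (h.irr z)

variable [Fintype F] {x t : GL I8 F} {J J' : Module.End F (I8 → F)} {c d : F} {N : ℕ} (w : Wit x t N)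
  (f : Two x t J J' c d)

theorem mem_iso_of {g : GL I8 F} (hg : g ∈ omegaGL (quadFormPlus 4 F)) : g ∈ isometryGroup F (quadFormPlus 4 F) := by
  obtain ⟨y, -, rfl⟩ := hg
  exact y.2

theorem q_lin {g : GL I8 F} (hg : g ∈ omegaGL (quadFormPlus 4 F)) (v : I8 → F) : qq F (lin g v) = qq F v := by
  have := (H708.O8.mem_iso F).1 (mem_iso_of hg) v
  rwa [coe_qq, coe_qq] at this

theorem b_lin {g : GL I8 F} (hg : g ∈ omegaGL (quadFormPlus 4 F)) (u v : I8 → F) :
    bb F (lin g u) (lin g v) = bb F u v := by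
  have h1 := qq_add (lin g u) (lin g v)
  rw [← map_add, q_lin hg, q_lin hg, q_lin hg, qq_add] at h1
  linear_combination -h1

include w in
theorem bb_fx_cm {u v : I8 → F} (hu : u ∈ fx (lin x)) (hv : v ∈ cm (lin x)) : bb F u v = 0 := by
  obtain ⟨y, rfl⟩ := hv
  rw [LinearMap.sub_apply, Module.End.one_apply, map_sub]
  have h1 := b_lin w.x_mem u y
  rw [H951.mem_fx.1 hu] at h1
  rw [h1, sub_self]

include f in
theorem J_fx {v : I8 → F} (hv : v ∈ fx (lin x)) : J v ∈ fx (lin x) := by
  rw [H951.mem_fx] at hv ⊢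
  have h1 : J (lin x v) = lin x (J v) := congrArg (fun g : Module.End F (I8 → F) => g v) f.cx
  rw [← h1, hv]

include f in
theorem J_cm {v : I8 → F} (hv : v ∈ cm (lin x)) : J v ∈ cm (lin x) := by
  obtain ⟨y, rfl⟩ := hv
  have h1 : J (lin x y) = lin x (J y) := congrArg (fun g : Module.End F (I8 → F) => g y) f.cx
  refine ⟨J y, ?_⟩
  rw [LinearMap.sub_apply, LinearMap.sub_apply, map_sub, h1]
  rfl

include f in
theorem fx_inf_cm : fx (lin x) ⊓ cm (lin x) = ⊥ := by
  rw [eq_bot_iff]
  rintro v ⟨h1, h2⟩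
  rw [Submodule.mem_bot]
  have h3 := f.agree v h2
  rw [f.conj v h1] at h3
  have h4 : (2 : F) • J v = c • v := by
    rw [two_smul]
    nth_rw 1 [← h3]
    abel
  by_cases h5 : (2 : F) = 0
  · have hc := (Fld.two_or f.fJ).resolve_left (by simpa using h5)
    rw [h5, zero_smul] at h4
    exact (smul_eq_zero.1 h4.symm).resolve_left hc
  · refine Fld.eig f.fJ (z := 2⁻¹ * c) ?_
    rw [mul_smul, ← h4, smul_smul, inv_mul_cancel₀ h5, one_smul]

include w in
theorem finrank_fx : finrank F (fx (lin x)) = 2 := by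
  have h1 := LinearMap.finrank_range_add_finrank_ker (lin x - 1)
  have h8 : finrank F (I8 → F) = 8 := by simp
  have h2 : finrank F (LinearMap.range (lin x - 1)) = 6 := w.x_dim
  rw [h2, h8] at h1
  exact Nat.add_left_cancel (n := 6) (m := finrank F (LinearMap.ker (lin x - 1))) (k := 2) h1

include w f in
theorem fx_sup_cm : fx (lin x) ⊔ cm (lin x) = ⊤ := by
  apply Submodule.eq_top_of_finrank_eq
  have h1 := Submodule.finrank_sup_add_finrank_inf_eq (fx (lin x)) (cm (lin x))
  rw [fx_inf_cm f, finrank_bot, finrank_fx w, w.x_dim] at h1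
  have h8 : finrank F (I8 → F) = 8 := by simp
  omega

include w f in
theorem exists_ns : ∃ v ∈ fx (lin x), qq F v ≠ 0 := by
  by_contra hcon
  push Not at hcon
  have h1 : fx (lin x) = ⊥ := by
    rw [eq_bot_iff]
    intro v hv
    rw [Submodule.mem_bot]
    apply quadPlus_nondegenerate.1
    intro u
    have hu : u ∈ fx (lin x) ⊔ cm (lin x) := by rw [fx_sup_cm w f]; exact Submodule.mem_top
    obtain ⟨a, ha, b, hb, rfl⟩ := Submodule.mem_sup.1 hu
    have e1 : bb F v a = 0 := ts_bb hcon hv ha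
    have e2 : bb F v b = 0 := bb_fx_cm w hv hb
    rw [map_add]
    exact (congrArg₂ (· + ·) e1 e2).trans (add_zero 0)
  have h2 := finrank_fx w
  rw [h1, finrank_bot] at h2
  omega

include w f in
/-- the reflection exchanges the two fields -/
theorem conj_rfl' {v0 : I8 → F} (hv0 : v0 ∈ fx (lin x)) (hq : qq F v0 ≠ 0) (v : I8 → F) :
    J' (rfl' v0 v) = rfl' v0 (J v) := by
  have hne : v0 ≠ 0 := fun h0 => hq (by rw [h0]; exact QuadraticMap.map_zero _)
  -- the vectors of `W`
  have hP : Submodule.span F {v0, J v0} = fx (lin x) := by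
    have hle : Submodule.span F {v0, J v0} ≤ fx (lin x) := by
      rw [Submodule.span_le]
      rintro u (rfl | rfl)
      · exact hv0
      · exact J_fx f hv0
    apply Submodule.eq_of_le_of_finrank_le hle
    rw [finrank_fx w]
    have hinv : ∀ u ∈ Submodule.span F {v0, J v0}, J u ∈ Submodule.span F {v0, J v0} := by
      intro u hu
      obtain ⟨k, l, rfl⟩ := Submodule.mem_span_pair.1 hu
      rw [map_add, map_smul, map_smul, Fld.J2 f.fJ]
      exact Submodule.mem_span_pair.2 ⟨-(l * d), k + l * c, by module⟩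
    obtain ⟨k, hk⟩ := even_of_inv f.fJ.irr f.fJ.sq hinv
    have hpos : 0 < finrank F ↥(Submodule.span F {v0, J v0}) := by
      rw [Module.finrank_pos_iff]
      exact ⟨⟨⟨v0, Submodule.subset_span (Set.mem_insert _ _)⟩, 0, fun h0 => hne (congrArg Subtype.val h0)⟩⟩
    omega
  have e0 : rfl' v0 v0 = -v0 := by
    rw [rfl'_apply, bb_self, mul_assoc, mul_inv_cancel₀ hq, mul_one, two_smul]
    abel
  have e1 : rfl' v0 (J v0) = J v0 - c • v0 := by
    rw [rfl'_apply, Fld.bs f.fJ, mul_assoc, mul_inv_cancel₀ hq, mul_one]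
  have hv : v ∈ fx (lin x) ⊔ cm (lin x) := by rw [fx_sup_cm w f]; exact Submodule.mem_top
  obtain ⟨a, ha, b, hb, rfl⟩ := Submodule.mem_sup.1 hv
  have ea : J' (rfl' v0 a) = rfl' v0 (J a) := by
    rw [← hP] at ha
    obtain ⟨k, l, rfl⟩ := Submodule.mem_span_pair.1 ha
    have hJ0 := f.conj v0 hv0
    have hJ1 := f.conj (J v0) (J_fx f hv0)
    simp only [map_add, map_smul, map_sub, map_neg, e0, e1, Fld.J2 f.fJ, hJ0, hJ1]
    module
  have eb : J' (rfl' v0 b) = rfl' v0 (J b) := by
    have h1 : rfl' v0 b = b := by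
      rw [rfl'_apply, bb_comm, bb_fx_cm w hv0 hb, zero_mul, zero_smul, sub_zero]
    have h2 : rfl' v0 (J b) = J b := by
      rw [rfl'_apply, bb_comm, bb_fx_cm w hv0 (J_cm f hb), zero_mul, zero_smul, sub_zero]
    rw [h1, h2, f.agree b hb]
  rw [map_add, map_add, map_add, map_add, ea, eb]

end

/-! ### the theorem -/

section

variable {F : Type} [Field F] [Fintype F] {p a r k : ℕ} {x t : GL I8 F} {J J' : Module.End F (I8 → F)} {c d : F}

/-- elements of `Ω` preserve the families -/
theorem even_omega {g : GL I8 F} (hg : g ∈ omegaGL (quadFormPlus 4 F)) {Y : Submodule F (I8 → F)}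
    (hY : ∀ v ∈ Y, qq F v = 0) (h4 : finrank F Y = 4) : Even (finrank F ↥(Y ⊓ H708.O8.tr g Y)) := by
  have hY' : ∀ v ∈ Y, quadFormPlus 4 F v = 0 := fun v hv => by rw [coe_qq]; exact hY v hv
  have hi := mem_iso_of hg
  have hX := H708.O8.even_of_omega hg
  have h1 := H708.O8.even_three (F := F) H708.O8.finrank_XX ((H708.O8.finrank_tr g _).trans H708.O8.finrank_XX)
    ((H708.O8.finrank_tr g Y).trans h4) H708.O8.ts_XX (H708.O8.ts_tr hi H708.O8.ts_XX) (H708.O8.ts_tr hi hY')
  rw [← H708.O8.tr_inf, H708.O8.finrank_tr] at h1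
  have h2 := H708.O8.even_three (F := F) H708.O8.finrank_XX h4 ((H708.O8.finrank_tr g Y).trans h4) H708.O8.ts_XX hY'
    (H708.O8.ts_tr hi hY')
  rw [Nat.even_iff] at *
  omega

/-- `F[J]` and `F[J']` are not conjugate in `Ω⁺₈(q)`; no hypothesis on `q` or on the order of `x` -/
theorem not_conj' {N : ℕ} (w : Wit x t N) (f : Two x t J J' c d)
    {g : GL I8 F} (hg : g ∈ omegaGL (quadFormPlus 4 F)) :
    ¬ ((∀ v, lin g (J v) = J' (lin g v)) ∨ (∀ v, lin g (J v) = c • lin g v - J' (lin g v))) := by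
  intro hcon
  obtain ⟨Y, hY, h4⟩ := exists_tsj f.fJ
  obtain ⟨v0, hv0, hq⟩ := exists_ns w f
  have hc := conj_rfl' w f hv0 hq
  have h3 := finrank_inf_rfl' hq hY.1 h4
  have hinj : Function.Injective (rfl' v0) := fun u v e => by rw [← rfl'_rfl' hq u, e, rfl'_rfl' hq]
  have h4' : finrank F ↥(Y.map (rfl' v0)) = 4 :=
    (Submodule.equivMapOfInjective (rfl' v0) hinj Y).finrank_eq.symm.trans h4
  have hts' : ∀ v ∈ Y.map (rfl' v0), qq F v = 0 := by
    rintro _ ⟨y, hy, rfl⟩
    rw [rfl'_q hq]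
    exact hY.1 y hy
  have hJ' : ∀ v ∈ Y.map (rfl' v0), J' v ∈ Y.map (rfl' v0) := by
    rintro _ ⟨y, hy, rfl⟩
    rw [hc]
    exact ⟨J y, hY.2 y hy, rfl⟩
  have hgJ : ∀ v ∈ H708.O8.tr g Y, J' v ∈ H708.O8.tr g Y := by
    rintro _ ⟨y, hy, rfl⟩
    rcases hcon with h | h
    · rw [← h y]
      exact ⟨J y, hY.2 y hy, rfl⟩
    · have h1 : J' (lin g y) = lin g (c • y - J y) := by
        rw [map_sub, map_smul, h y]; abel
      rw [h1]
      exact ⟨_, Y.sub_mem (Y.smul_mem c hy) (hY.2 y hy), rfl⟩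
  have e1 := even_omega hg hY.1 h4
  have e2 : Even (finrank F ↥(H708.O8.tr g Y ⊓ Y.map (rfl' v0))) :=
    even_of_inv f.fJ'.irr f.fJ'.sq fun v hv => ⟨hgJ v hv.1, hJ' v hv.2⟩
  have hY' : ∀ v ∈ Y, quadFormPlus 4 F v = 0 := fun v hv => by rw [coe_qq]; exact hY.1 v hv
  have e3 := H708.O8.even_three (F := F) h4 ((H708.O8.finrank_tr g Y).trans h4) h4' hY'
    (H708.O8.ts_tr (mem_iso_of hg) hY') (fun v hv => by rw [coe_qq]; exact hts' v hv)
  rw [h3] at e3
  rw [Nat.even_iff] at *
  omega

/-- **(O10)** `F[J]` and `F[J']` are not conjugate in `Ω⁺₈(q)` -/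
theorem not_conj (_hF : Nat.card F = p ^ a) (_h : RK p a r k) (w : Wit x t (r ^ k)) (f : Two x t J J' c d)
    {g : GL I8 F} (hg : g ∈ omegaGL (quadFormPlus 4 F)) :
    ¬ ((∀ v, lin g (J v) = J' (lin g v)) ∨ (∀ v, lin g (J v) = c • lin g v - J' (lin g v))) := not_conj' w f hg

end

end Cfsg.Agent.H332.O8S
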