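import Cfsg.Agent.H823.O8S.Base
import Cfsg.Agent.H441.Wei.CentU3
import Cfsg.Agent.H816.OutEmb
import Cfsg.Agent.S2603

/-!
# S3938-OPLUS8-O8: `PSU₃(q)` (helper332)
-/

set_option autoImplicit false

namespace Cfsg.Agent.H332.O8S

open Cfsg Cfsg.Agent.H823.O8S Cfsg.Agent.OrdDiv Cfsg.Agent.H436

section

variable {p a r k : ℕ} {R : Type} [Group R] [Finite R] (S : Subgroup R) [S.Normal]

/-- a primitive prime divisor of `p ^ (6 a) - 1` is larger than `6 a` -/
theorem lt_prim (_ha : 1 ≤ a) (hr : Prim p (6 * a) r) : 6 * a < r := by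
  have := Fact.mk hr.prime
  have h1 : r ∣ p ^ (r - 1) - 1 := by
    have h2 : ((p : ℤ)) ^ (r - 1) ≡ 1 [ZMOD r] := by
      apply Int.ModEq.pow_card_sub_one_eq_one hr.prime
      rw [Int.isCoprime_iff_gcd_eq_one, Int.gcd_natCast_natCast]
      exact ((Nat.Prime.coprime_iff_not_dvd hr.prime).2 hr.not_dvd).symm
    have h3 : p ^ (r - 1) ≡ 1 [MOD r] := by exact_mod_cast h2
    have h4 : 1 ≤ p ^ (r - 1) := by
      rcases Nat.eq_zero_or_pos p with rfl | h5
      · exact absurd (dvd_zero r) hr.not_dvd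
      · exact Nat.one_le_pow _ _ h5
    exact (Nat.modEq_iff_dvd' h4).1 h3.symm
  have h5 := Nat.le_of_dvd (by have := hr.prime.two_le; omega) ((hr.dvd_iff _).1 h1)
  have := hr.prime.two_le
  omega

variable (hC : Subgroup.centralizer (S : Set R) = ⊥) (hS : IsNamed (.psu 3 (p ^ a)) S)

omit [Finite R] in
include hC hS in
/-- elements of order `r` lie in `S` -/
theorem mem_of_psu3 (hp : p.Prime) (ha : 1 ≤ a) (h2 : p ^ a ≠ 2) (hr : Prim p (6 * a) r) {z : R}
    (hz : z ^ r = 1) : z ∈ S := by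
  have := Fact.mk hp
  obtain ⟨F, iF, iF', hF, ⟨e⟩⟩ := hS.real
  obtain ⟨φ, hφ, -, hk⟩ := S2603.result (K := F) (n := 3) ha rfl hF le_rfl (fun h => h2 h.2)
  have h1 : Nat.card (Cfsg.Out (PSU 3 F (p ^ a)) ⧸ φ.ker) = 2 * a := by
    rw [Nat.card_congr (QuotientGroup.quotientKerEquivOfSurjective φ hφ).toEquiv,
      Nat.card_congr Multiplicative.toAdd, Nat.card_zmod]
  have h3 : Nat.card (Cfsg.Out S) = 2 * a * Nat.gcd 3 (p ^ a + 1) := by
    rw [Nat.card_congr (H816.OutEmb.out_congr e).some.toEquiv, Subgroup.card_eq_card_quotient_mul_card_subgroup φ.ker,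
      h1, hk]
  have h4 : S.index ∣ 2 * a * Nat.gcd 3 (p ^ a + 1) := by
    rw [← h3]
    exact H816.OutEmb.index_dvd S (by rw [hC]; exact bot_le)
  have hlt := lt_prim ha hr
  have h5 : ¬ r ∣ S.index := by
    intro h6
    rcases (Nat.Prime.dvd_mul hr.prime).1 (h6.trans h4) with h7 | h7
    · have := Nat.le_of_dvd (by omega) h7
      omega
    · have := Nat.le_of_dvd (by norm_num) (h7.trans (Nat.gcd_dvd_left _ _))
      omega
  -- the image of `z` in `R / S` is trivial
  have h8 : (QuotientGroup.mk' S z) ^ r = 1 := by rw [← map_pow, hz, map_one]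
  have h9 : (QuotientGroup.mk' S z) ^ (Nat.card (R ⧸ S)) = 1 := pow_card_eq_one'
  have h10 : (QuotientGroup.mk' S z) = 1 := by
    have h11 : orderOf (QuotientGroup.mk' S z) ∣ 1 := by
      have h12 := Nat.dvd_gcd (orderOf_dvd_of_pow_eq_one h8) (orderOf_dvd_of_pow_eq_one h9)
      have h13 : Nat.gcd r (Nat.card (R ⧸ S)) = 1 := (Nat.Prime.coprime_iff_not_dvd hr.prime).2 h5
      rwa [h13] at h12
    exact orderOf_eq_one_iff.1 (Nat.dvd_one.1 h11)
  exact (QuotientGroup.eq_one_iff z).1 h10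

include hC hS in
/-- an element of order `r ^ k` commutes only with elements of order dividing `q² - q + 1` -/
theorem order_dvd_psu3 (hp : p.Prime) (ha : 1 ≤ a) (h2 : p ^ a ≠ 2) (hr : Prim p (6 * a) r) (hk : 1 ≤ k) {x t : R}
    (hx : orderOf x = r ^ k) (hxt : x * t = t * x) : orderOf t ∣ (p ^ a) ^ 2 - p ^ a + 1 := by
  have hrpos := hr.prime.pos
  obtain ⟨z, hz⟩ : ∃ z : R, z = x ^ r ^ (k - 1) := ⟨_, rfl⟩
  have hzo : orderOf z = r := by
    rw [hz, orderOf_pow, hx, Nat.gcd_eq_right (pow_dvd_pow r (by omega))]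
    have : r ^ k = r ^ (k - 1) * r := by rw [← pow_succ]; congr 1; omega
    rw [this, Nat.mul_div_cancel_left _ (pow_pos hrpos _)]
  have hzr : z ^ r = 1 := by rw [← hzo, pow_orderOf_eq_one]
  have h1 := H441.Wei.card_cent_psu3 hp ha h2 S hC hS hr (mem_of_psu3 S hC hS hp ha h2 hr hzr) hzo
  have h3 : t ∈ (Subgroup.centralizer {z} : Subgroup R) := by
    rw [Subgroup.mem_centralizer_singleton_iff, hz]
    exact (Commute.pow_left (show Commute x t from hxt) _).eq.symm
  have h4 : orderOf (⟨t, h3⟩ : (Subgroup.centralizer {z} : Subgroup R)) = orderOf t := by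
    rw [← Subgroup.orderOf_coe]
  rw [← h4]
  exact (orderOf_dvd_natCard _).trans h1

omit hS in
include hC in
/-- **(O8)** `PSU₃(q)` -/
theorem psu3_false {x t : R} (hx : orderOf x = r ^ k) (ht : orderOf t = mt (p ^ a))
    (hxt : x * t = t * x) (h : RK p a r k) (hS : IsNamed (.psu 3 (p ^ a)) S) : False := by
  have h4 := h.four
  have h1 := order_dvd_psu3 S hC hS h.hp h.ha (by omega) h.prim h.hk hx hxt
  rw [ht] at h1
  have h2 := mt_dvd (p ^ a) (by omega)
  have h3 := h.mt_four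
  generalize hm : mt (p ^ a) = m at h1 h2 h3
  generalize hq : p ^ a = q at h1 h2 h4
  have h5 : m ∣ 3 := by
    have h6 : q ^ 2 - q + 1 + 3 * q = (q + 1) * (q + 1) := by
      have : q ≤ q ^ 2 := Nat.le_self_pow (by norm_num) q
      zify [this]
      ring
    have h7 : m ∣ 3 * q := by
      rw [← Nat.dvd_add_right h1, h6]
      exact h2.mul_left _
    have h8 : m ∣ 3 * q + 3 := by
      have : 3 * q + 3 = 3 * (q + 1) := by ring
      rw [this]
      exact h2.mul_left _
    exact (Nat.dvd_add_right h7).1 h8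
  have := Nat.le_of_dvd (by norm_num) h5
  omega

end

end Cfsg.Agent.H332.O8S
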